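/-
Certificate data: suborbit of size 77.
-/
import Cfsg.Agent.Lib.Leech.OrbitEngine

set_option autoImplicit false
set_option maxRecDepth 100000

namespace Cfsg.Agent.Leech.Orb

/-- Fixed vectors. -/
def hsFarF : List ℕ := [0x377777777777777777777777, 0xc88888888888888888888884, 0x488888888888888888888884]

/-- Generators. -/
def hsFarGens : List Gen := [
  [(0x17120d16050f03140608130e07100a11010b040c02150900, 0x0)],
  [(0x17080d05030c0a160b1409040207120f1015060111130e00, 0x0)]]

/-- First member. -/
def hsFarSeed : ℕ := 0x688888688688888888686666

/-- Tree steps. -/
def hsFarSteps0 : List ℕ := [
  0x688868688886888668886886000000,
  0x688888688668688688868886000000,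
  0x686888888686888686688886000000,
  0x688868886686888888868686000000,
  0x688886888866888888666886000000,
  0x666868688888888888668886000000,
  0x688668888868888688688686000000,
  0x686868868668888888886886000000,
  0x686888688866868888888686000000,
  0x686888888888886688866686000000,
  0x668868888866688886888886000001,
  0x686688886868888886868886000000,
  0x686886866888888888688686000000,
  0x668866888888868888886686000000,
  0x668688688868886888886886000000,
  0x686688668888888688888866000000,
  0x688888868688868668888686000000,
  0x688888888686666888886886000000,
  0x688888688886886886868866000000,
  0x688888886888888668668866000000,
  0x688866888688688868688886000000,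
  0x688688886888866888888666000001,
  0x688886868888886868886866000000,
  0x668888688888668868888866000000,
  0x688688888888686666888886000000,
  0x688888866688688886888866000000,
  0x688886886886868866888886000000,
  0x668886886888686888868886000000,
  0x668686888888888886688866000000,
  0x668668866888888868888886000000,
  0x688686868868668888888886000000,
  0x666888868888866886888886000000,
  0x688888668868888866688886000001,
  0x686868886888668688888886000000,
  0x688886888668886886888686000000,
  0x666888886886888888886866000000,
  0x688686688888888868868686000000,
  0x668888868888688688686886000000,
  0x688668688688868886888886000000,
  0x688888866866886688888886000000,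
  0x686886888688868888868866000000,
  0x668888888886886868688686000000,
  0x688668888888688888866866000000,
  0x666886888868888668888886000031,
  0x666688888688688888888686000000,
  0x688688868886888886886686000000,
  0x688888666888868888866886000000,
  0x688886688888866688688886000000,
  0x668868888688886688888866000000,
  0x688688888666888868888866000000,
  0x686888868886688868868886000000,
  0x688888888888668886668686000000,
  0x688868886888886886686886000000,
  0x688866686868888888888866000000,
  0x688688686886688888688886000021,
  0x688866868888888686868886000000,
  0x668888886668868888688886000000,
  0x686666888886886888888886000000,
  0x668888868868888888868666000000,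
  0x686688888888868868686886000000,
  0x688868668888686888888686000000,
  0x688888888868868686886866000000,
  0x686888686688886868888886000000,
  0x688886888886688688888666000000,
  0x668888888688888866866886000000,
  0x688868868886868888688866000001,
  0x688868888868866868868886000000,
  0x686888888868686888688866000000,
  0x686868888888888866888666000000,
  0x688888886868688868886686000000,
  0x686886688888688886886886000000,
  0x668888686888888686888686000000,
  0x688686886688888688886886000000,
  0x668886668686888888888886000000,
  0x668688888886868688868886000000,
  0x688688868688886888668886000000]

/-- All tree steps. -/
def hsFarSteps : List ℕ :=
  hsFarSteps0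

theorem hsFar_ok : orbitOK hsFarF hsFarGens hsFarSeed hsFarSteps 77 = true := by
  decide +kernel

end Cfsg.Agent.Leech.Orb
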