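/-
Certificate data: suborbit of size 22.
-/
import Cfsg.Agent.Lib.Leech.OrbitEngine

set_option autoImplicit false
set_option maxRecDepth 100000

namespace Cfsg.Agent.Leech.Orb

/-- Fixed vectors. -/
def hsNearF : List ℕ := [0x377777777777777777777777, 0xc88888888888888888888884, 0x488888888888888888888884]

/-- Generators. -/
def hsNearGens : List Gen := [
  [(0x17120d16050f03140608130e07100a11010b040c02150900, 0x0)],
  [(0x17080d05030c0a160b1409040207120f1015060111130e00, 0x0)]]

/-- First member. -/
def hsNearSeed : ℕ := 0x7b7777777777777777777777

/-- Tree steps. -/
def hsNearSteps0 : List ℕ := [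
  0x777b77777777777777777777000000,
  0x7777777b7777777777777777000000,
  0x7777777777777b7777777777000000,
  0x77777777777777b777777777000000,
  0x7777777777777777777777b7000000,
  0x7777777777777777b7777777000000,
  0x777777777777b77777777777000000,
  0x77777777777777777b777777000000,
  0x77777777b777777777777777000000,
  0x77777b777777777777777777000000,
  0x777777777777777b77777777000011,
  0x777777777b77777777777777000000,
  0x77777777777b777777777777000000,
  0x7777777777777777777b7777000000,
  0x777777777777777777b77777000000,
  0x7777b7777777777777777777000000,
  0x7777777777b7777777777777000000,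
  0x77b777777777777777777777000000,
  0x777777777777777777777b77000000,
  0x77777777777777777777b777000000,
  0x777777b77777777777777777000000]

/-- All tree steps. -/
def hsNearSteps : List ℕ :=
  hsNearSteps0

theorem hsNear_ok : orbitOK hsNearF hsNearGens hsNearSeed hsNearSteps 22 = true := by
  decide +kernel

end Cfsg.Agent.Leech.Orb
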