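import Cfsg.Agent.Lib.Leech.Orb.CoThree1100P0

set_option autoImplicit false
set_option maxRecDepth 100000

namespace Cfsg.Agent.Leech.Orb

theorem coThree1100_ok : orbitOK coThree1100F coThree1100Gens coThree1100Seed coThree1100Steps 1100 = true :=
  orbitOK_of_parts (by decide +kernel)
    (show vecTreeOK coThree1100Gens coThree1100Stack0 coThree1100Steps = true from (vecTreeOK_append _ _ _ _ coThree1100_tree0 coThree1100_stack0 coThree1100_tree1))
    (by decide +kernel) (by decide +kernel) (by decide +kernel)

end Cfsg.Agent.Leech.Orb
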