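import Cfsg.Agent.Lib.Leech.Orb.CoThree352P0

set_option autoImplicit false
set_option maxRecDepth 100000

namespace Cfsg.Agent.Leech.Orb

theorem coThree352_ok : orbitOK coThree352F coThree352Gens coThree352Seed coThree352Steps 352 = true :=
  orbitOK_of_parts (by decide +kernel)
    (show vecTreeOK coThree352Gens coThree352Stack0 coThree352Steps = true from coThree352_tree0)
    (by decide +kernel) (by decide +kernel) (by decide +kernel)

end Cfsg.Agent.Leech.Orb
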