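import Cfsg.Agent.Lib.Leech.Orb.CoThree4125P0
import Cfsg.Agent.Lib.Leech.Orb.CoThree4125P1

set_option autoImplicit false
set_option maxRecDepth 100000

namespace Cfsg.Agent.Leech.Orb

theorem coThree4125_ok : orbitOK coThree4125F coThree4125Gens coThree4125Seed coThree4125Steps 4125 = true :=
  orbitOK_of_parts (by decide +kernel)
    (show vecTreeOK coThree4125Gens coThree4125Stack0 coThree4125Steps = true from (vecTreeOK_append _ _ _ _ coThree4125_tree0 coThree4125_stack0 (vecTreeOK_append _ _ _ _ coThree4125_tree1 coThree4125_stack1 (vecTreeOK_append _ _ _ _ coThree4125_tree2 coThree4125_stack2 (vecTreeOK_append _ _ _ _ coThree4125_tree3 coThree4125_stack3 (vecTreeOK_append _ _ _ _ coThree4125_tree4 coThree4125_stack4 coThree4125_tree5))))))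
    (by decide +kernel) (by decide +kernel) (by decide +kernel)

end Cfsg.Agent.Leech.Orb
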