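import Cfsg.Agent.Lib.Leech.Orb.CoThree5600
import Cfsg.Agent.Lib.Leech.OrbitChunk

set_option autoImplicit false
set_option maxRecDepth 100000

namespace Cfsg.Agent.Leech.Orb

theorem coThree5600_tree3 : vecTreeOK coThree5600Gens coThree5600Stack3 coThree5600Steps3 = true := by
  decide +kernel

theorem coThree5600_stack3 : stackAfter coThree5600Stack3 coThree5600Steps3 = coThree5600Stack4 := by
  decide +kernel

theorem coThree5600_tree4 : vecTreeOK coThree5600Gens coThree5600Stack4 coThree5600Steps4 = true := by
  decide +kernel

theorem coThree5600_stack4 : stackAfter coThree5600Stack4 coThree5600Steps4 = coThree5600Stack5 := by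
  decide +kernel

theorem coThree5600_tree5 : vecTreeOK coThree5600Gens coThree5600Stack5 coThree5600Steps5 = true := by
  decide +kernel

theorem coThree5600_stack5 : stackAfter coThree5600Stack5 coThree5600Steps5 = coThree5600Stack6 := by
  decide +kernel

end Cfsg.Agent.Leech.Orb
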