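import Cfsg.Agent.Lib.Leech.Orb.CoThree5600
import Cfsg.Agent.Lib.Leech.OrbitChunk

set_option autoImplicit false
set_option maxRecDepth 100000

namespace Cfsg.Agent.Leech.Orb

theorem coThree5600_tree6 : vecTreeOK coThree5600Gens coThree5600Stack6 coThree5600Steps6 = true := by
  decide +kernel

theorem coThree5600_stack6 : stackAfter coThree5600Stack6 coThree5600Steps6 = coThree5600Stack7 := by
  decide +kernel

theorem coThree5600_tree7 : vecTreeOK coThree5600Gens coThree5600Stack7 coThree5600Steps7 = true := by
  decide +kernel

theorem coThree5600_stack7 : stackAfter coThree5600Stack7 coThree5600Steps7 = coThree5600Stack8 := by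
  decide +kernel

end Cfsg.Agent.Leech.Orb
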