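import Cfsg.Agent.Lib.Leech.Orb.CoThree5600P0
import Cfsg.Agent.Lib.Leech.Orb.CoThree5600P1
import Cfsg.Agent.Lib.Leech.Orb.CoThree5600P2

set_option autoImplicit false
set_option maxRecDepth 100000

namespace Cfsg.Agent.Leech.Orb

theorem coThree5600_ok : orbitOK coThree5600F coThree5600Gens coThree5600Seed coThree5600Steps 5600 = true :=
  orbitOK_of_parts (by decide +kernel)
    (show vecTreeOK coThree5600Gens coThree5600Stack0 coThree5600Steps = true from (vecTreeOK_append _ _ _ _ coThree5600_tree0 coThree5600_stack0 (vecTreeOK_append _ _ _ _ coThree5600_tree1 coThree5600_stack1 (vecTreeOK_append _ _ _ _ coThree5600_tree2 coThree5600_stack2 (vecTreeOK_append _ _ _ _ coThree5600_tree3 coThree5600_stack3 (vecTreeOK_append _ _ _ _ coThree5600_tree4 coThree5600_stack4 (vecTreeOK_append _ _ _ _ coThree5600_tree5 coThree5600_stack5 (vecTreeOK_append _ _ _ _ coThree5600_tree6 coThree5600_stack6 coThree5600_tree7))))))))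
    (by decide +kernel) (by decide +kernel) (by decide +kernel)

end Cfsg.Agent.Leech.Orb
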