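import Cfsg.Agent.Lib.Leech.Orb.CoTwo4600
import Cfsg.Agent.Lib.Leech.OrbitChunk

set_option autoImplicit false
set_option maxRecDepth 100000

namespace Cfsg.Agent.Leech.Orb

theorem coTwo4600_tree4 : vecTreeOK coTwo4600Gens coTwo4600Stack4 coTwo4600Steps4 = true := by
  decide +kernel

theorem coTwo4600_stack4 : stackAfter coTwo4600Stack4 coTwo4600Steps4 = coTwo4600Stack5 := by
  decide +kernel

theorem coTwo4600_tree5 : vecTreeOK coTwo4600Gens coTwo4600Stack5 coTwo4600Steps5 = true := by
  decide +kernel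

end Cfsg.Agent.Leech.Orb
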