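import Cfsg.Agent.Lib.Leech.Orb.CoTwo4600P0
import Cfsg.Agent.Lib.Leech.Orb.CoTwo4600P1
import Cfsg.Agent.Lib.Leech.Orb.CoTwo4600P2
import Cfsg.Agent.Lib.Leech.OrbitBuckets

set_option autoImplicit false
set_option maxRecDepth 100000

namespace Cfsg.Agent.Leech.Orb

theorem coTwo4600_gens : coTwo4600Gens.all (fun a => a.ok && coTwo4600F.all fun Z => edgeOK a Z Z) = true := by
  decide +kernel

theorem coTwo4600_len : (coTwo4600Steps.length + 1 == 4600) = true := by
  decide +kernel

theorem coTwo4600_lt :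
    (coTwo4600Seed :: coTwo4600Steps.map stepVec).all (fun Y => decide (Y < 16 ^ 24)) = true := by
  decide +kernel

theorem coTwo4600_tree : vecTreeOK coTwo4600Gens coTwo4600Stack0 coTwo4600Steps = true :=
  (vecTreeOK_append _ _ _ _ coTwo4600_tree0 coTwo4600_stack0 (vecTreeOK_append _ _ _ _ coTwo4600_tree1 coTwo4600_stack1 (vecTreeOK_append _ _ _ _ coTwo4600_tree2 coTwo4600_stack2 (vecTreeOK_append _ _ _ _ coTwo4600_tree3 coTwo4600_stack3 (vecTreeOK_append _ _ _ _ coTwo4600_tree4 coTwo4600_stack4 coTwo4600_tree5)))))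

theorem coTwo4600_distinct : bucketsOK (coTwo4600Seed :: coTwo4600Steps.map stepVec) = true := by
  decide +kernel

end Cfsg.Agent.Leech.Orb
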