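import Cfsg.Agent.Lib.Leech.Orb.CoThree1100
import Cfsg.Agent.Lib.Leech.OrbitChunk

set_option autoImplicit false
set_option maxRecDepth 100000

namespace Cfsg.Agent.Leech.Orb

theorem coThree1100_tree0 : vecTreeOK coThree1100Gens coThree1100Stack0 coThree1100Steps0 = true := by
  decide +kernel

theorem coThree1100_stack0 : stackAfter coThree1100Stack0 coThree1100Steps0 = coThree1100Stack1 := by
  decide +kernel

theorem coThree1100_tree1 : vecTreeOK coThree1100Gens coThree1100Stack1 coThree1100Steps1 = true := by
  decide +kernel

theorem coThree1100_stack1 : stackAfter coThree1100Stack1 coThree1100Steps1 = coThree1100Stack2 := by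
  decide +kernel

end Cfsg.Agent.Leech.Orb
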