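import Cfsg.Agent.Lib.Leech.Orb.CoThree352
import Cfsg.Agent.Lib.Leech.OrbitChunk

set_option autoImplicit false
set_option maxRecDepth 100000

namespace Cfsg.Agent.Leech.Orb

theorem coThree352_tree0 : vecTreeOK coThree352Gens coThree352Stack0 coThree352Steps0 = true := by
  decide +kernel

theorem coThree352_stack0 : stackAfter coThree352Stack0 coThree352Steps0 = coThree352Stack1 := by
  decide +kernel

end Cfsg.Agent.Leech.Orb
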