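import Cfsg.Agent.Lib.Leech.Orb.CoThree4125
import Cfsg.Agent.Lib.Leech.OrbitChunk

set_option autoImplicit false
set_option maxRecDepth 100000

namespace Cfsg.Agent.Leech.Orb

theorem coThree4125_tree0 : vecTreeOK coThree4125Gens coThree4125Stack0 coThree4125Steps0 = true := by
  decide +kernel

theorem coThree4125_stack0 : stackAfter coThree4125Stack0 coThree4125Steps0 = coThree4125Stack1 := by
  decide +kernel

theorem coThree4125_tree1 : vecTreeOK coThree4125Gens coThree4125Stack1 coThree4125Steps1 = true := by
  decide +kernel

theorem coThree4125_stack1 : stackAfter coThree4125Stack1 coThree4125Steps1 = coThree4125Stack2 := by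
  decide +kernel

theorem coThree4125_tree2 : vecTreeOK coThree4125Gens coThree4125Stack2 coThree4125Steps2 = true := by
  decide +kernel

theorem coThree4125_stack2 : stackAfter coThree4125Stack2 coThree4125Steps2 = coThree4125Stack3 := by
  decide +kernel

end Cfsg.Agent.Leech.Orb
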