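import Cfsg.Agent.Lib.Leech.Orb.CoThree5600
import Cfsg.Agent.Lib.Leech.OrbitChunk

set_option autoImplicit false
set_option maxRecDepth 100000

namespace Cfsg.Agent.Leech.Orb

theorem coThree5600_tree0 : vecTreeOK coThree5600Gens coThree5600Stack0 coThree5600Steps0 = true := by
  decide +kernel

theorem coThree5600_stack0 : stackAfter coThree5600Stack0 coThree5600Steps0 = coThree5600Stack1 := by
  decide +kernel

theorem coThree5600_tree1 : vecTreeOK coThree5600Gens coThree5600Stack1 coThree5600Steps1 = true := by
  decide +kernel

theorem coThree5600_stack1 : stackAfter coThree5600Stack1 coThree5600Steps1 = coThree5600Stack2 := by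
  decide +kernel

theorem coThree5600_tree2 : vecTreeOK coThree5600Gens coThree5600Stack2 coThree5600Steps2 = true := by
  decide +kernel

theorem coThree5600_stack2 : stackAfter coThree5600Stack2 coThree5600Steps2 = coThree5600Stack3 := by
  decide +kernel

end Cfsg.Agent.Leech.Orb
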